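import Cfsg.Agent.Lib.Solv.ClassPow
import Cfsg.Agent.Lib.Solv.Parts
import Cfsg.Agent.Lib.Perm.NilpotentHall
import Mathlib.GroupTheory.Coset.Card

/-!
Products of elements with coprime class sizes; the subgroup generated by the displacements of an element.
-/

set_option autoImplicit false
set_option linter.style.haveILetI false

open scoped Pointwise

namespace Cfsg.Agent.Solv.SingularClassGraph

universe u

variable {G : Type u} [Group G]

/-- The centraliser of one element. -/
abbrev cz (x : G) : Subgroup G := Subgroup.centralizer ({x} : Set G)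

theorem mem_cz {x c : G} : c ∈ cz x ↔ c * x = x * c := Subgroup.mem_centralizer_singleton_iff

theorem self_mem_cz (x : G) : x ∈ cz x := mem_cz.2 rfl

theorem conj_of_mem_cz {x d : G} (hd : d ∈ cz x) (g : G) :
    g * d * x * (g * d)⁻¹ = g * x * g⁻¹ := by
  rw [mul_assoc g d x, mem_cz.1 hd]; group

theorem cz_le_of_mem_zpowers {x z : G} (h : z ∈ Subgroup.zpowers x) : cz x ≤ cz z := by
  intro c hc
  obtain ⟨i, rfl⟩ := h
  exact mem_cz.2 ((show Commute c x from mem_cz.1 hc).zpow_right i).eq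

theorem cz_inv (x : G) : cz x⁻¹ = cz x :=
  le_antisymm (cz_le_of_mem_zpowers ⟨-1, by simp⟩)
    (cz_le_of_mem_zpowers (inv_mem (Subgroup.mem_zpowers x)))

theorem cz_mul_le {x z : G} : cz x ⊓ cz z ≤ cz (x * z) := by
  intro c hc
  exact mem_cz.2 ((show Commute c x from mem_cz.1 hc.1).mul_right (mem_cz.1 hc.2)).eq

theorem cz_mul_le_of_coprime {x z : G} (hc : Commute x z) (h : (orderOf x).Coprime (orderOf z)) :
    cz (x * z) ≤ cz x := by
  obtain ⟨a, b, hab⟩ : IsCoprime (orderOf x : ℤ) (orderOf z : ℤ) := Int.isCoprime_iff_gcd_eq_one.2 h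
  refine cz_le_of_mem_zpowers ⟨b * orderOf z, ?_⟩
  show (x * z) ^ (b * (orderOf z : ℤ)) = x
  have h1 : z ^ (b * (orderOf z : ℤ)) = 1 := by
    rw [mul_comm, zpow_mul, zpow_natCast, pow_orderOf_eq_one, one_zpow]
  have h2 : x ^ (a * (orderOf x : ℤ)) = 1 := by
    rw [mul_comm, zpow_mul, zpow_natCast, pow_orderOf_eq_one, one_zpow]
  rw [hc.mul_zpow, h1, mul_one]
  calc x ^ (b * (orderOf z : ℤ))
      = x ^ (a * (orderOf x : ℤ) + b * (orderOf z : ℤ)) := by rw [zpow_add, h2, one_mul]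
    _ = x := by rw [hab, zpow_one]

theorem index_cz_conj (g x : G) : (cz (g * x * g⁻¹)).index = (cz x).index := by
  have h : cz (g * x * g⁻¹) = (cz x).map ((MulAut.conj g : G ≃* G) : G →* G) := by
    ext c
    refine Iff.trans ?_ Subgroup.mem_map_equiv.symm
    rw [mem_cz, mem_cz, MulAut.conj_symm_apply]
    constructor
    · intro h
      calc g⁻¹ * c * g * x = g⁻¹ * (c * (g * x * g⁻¹)) * g := by group
        _ = g⁻¹ * (g * x * g⁻¹ * c) * g := by rw [h]
        _ = x * (g⁻¹ * c * g) := by group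
    · intro h
      calc c * (g * x * g⁻¹) = g * (g⁻¹ * c * g * x) * g⁻¹ := by group
        _ = g * (x * (g⁻¹ * c * g)) * g⁻¹ := by rw [h]
        _ = g * x * g⁻¹ * c := by group
  rw [h, Subgroup.index_map_equiv]

theorem orderOf_conj (g x : G) : orderOf (g * x * g⁻¹) = orderOf x :=
  (MulAut.conj g).orderOf_eq x

theorem exists_split [Finite G] {C D : Subgroup G} (h : C.index.Coprime D.index) (g : G) :
    ∃ c ∈ C, ∃ d ∈ D, g = c * d := by
  let f : C ⧸ D.subgroupOf C → G ⧸ D := Quotient.map' (fun c => (c : G)) fun a b hab => by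
    rw [QuotientGroup.leftRel_apply] at hab ⊢; exact hab
  have hinj : Function.Injective f := by
    intro a b hab
    induction a using Quotient.inductionOn' with | h a =>
    induction b using Quotient.inductionOn' with | h b =>
    have h' : (QuotientGroup.mk (a : G) : G ⧸ D) = QuotientGroup.mk (b : G) := hab
    exact QuotientGroup.eq.2 (QuotientGroup.eq.1 h' :)
  have hle : D.index ≤ Nat.card (C ⧸ D.subgroupOf C) := by
    have h1 : D.index ∣ C.index * D.relIndex C := by
      rw [mul_comm, ← Subgroup.inf_relIndex_right, Subgroup.relIndex_mul_index inf_le_right]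
      exact Subgroup.index_dvd_of_le inf_le_left
    exact Nat.le_of_dvd Nat.card_pos ((Nat.Coprime.symm h).dvd_of_dvd_mul_left h1)
  have hbij := (Nat.bijective_iff_injective_and_card f).2
    ⟨hinj, le_antisymm (Nat.card_le_card_of_injective f hinj) hle⟩
  obtain ⟨c, hc⟩ := hbij.2 (QuotientGroup.mk g)
  induction c using Quotient.inductionOn' with | h c =>
  have hc' : (QuotientGroup.mk (c : G) : G ⧸ D) = QuotientGroup.mk g := hc
  rw [QuotientGroup.eq] at hc'
  exact ⟨c, c.2, (c : G)⁻¹ * g, hc', by group⟩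

theorem exists_joint_conj [Finite G] {x z : G} (h : (cz x).index.Coprime (cz z).index) (g₁ g₂ : G) :
    ∃ k : G, k * x * k⁻¹ = g₁ * x * g₁⁻¹ ∧ k * z * k⁻¹ = g₂ * z * g₂⁻¹ := by
  obtain ⟨c, hc, d, hd, he⟩ := exists_split h (g₁⁻¹ * g₂)
  refine ⟨g₁ * c, conj_of_mem_cz hc g₁, ?_⟩
  have : g₁ * c = g₂ * d⁻¹ := by
    calc g₁ * c = g₁ * (c * d) * d⁻¹ := by group
      _ = g₂ * d⁻¹ := by rw [← he]; group
  rw [this]; exact conj_of_mem_cz (inv_mem hd) g₂

/-- The subgroup generated by `x⁻¹ * x ^ g`. -/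
def disp (x : G) : Subgroup G := Subgroup.closure (Set.range fun g : G => x⁻¹ * (g * x * g⁻¹))

theorem disp_gen (x g : G) : x⁻¹ * (g * x * g⁻¹) ∈ disp x :=
  Subgroup.subset_closure ⟨g, rfl⟩

instance disp_normal (x : G) : (disp x).Normal := by
  refine ⟨fun m hm h => ?_⟩
  suffices disp x ≤ (disp x).comap (MulAut.conj h).toMonoidHom from this hm
  refine (Subgroup.closure_le _).2 ?_
  rintro _ ⟨g, rfl⟩
  show h * (x⁻¹ * (g * x * g⁻¹)) * h⁻¹ ∈ disp x
  have e : h * (x⁻¹ * (g * x * g⁻¹)) * h⁻¹ =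
      (x⁻¹ * (h * x * h⁻¹))⁻¹ * (x⁻¹ * (h * g * x * (h * g)⁻¹)) := by group
  rw [e]; exact mul_mem (inv_mem (disp_gen x h)) (disp_gen x _)

/-- When the classes of `x`, `z` and of `x`, `x * z` have coprime sizes, `disp x` fixes the class of `z`
as a set under multiplication. -/
theorem disp_mul_conj [Finite G] {x z : G} (h1 : (cz x).index.Coprime (cz z).index)
    (h2 : (cz x).index.Coprime (cz (x * z)).index) :
    (Nat.card (disp x) ∣ (cz z).index) ∧
      ∀ m ∈ disp x, ∀ g : G, ∃ k : G, m * (g * z * g⁻¹) = k * z * k⁻¹ := by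
  set U : Set G := (ConjClasses.mk z).carrier with hU
  have hmem : ∀ v : G, v ∈ U ↔ ∃ g : G, g * z * g⁻¹ = v := by
    intro v
    rw [hU, ConjClasses.mem_carrier_iff_mk_eq, ConjClasses.mk_eq_mk_iff_isConj, isConj_comm, isConj_iff]
  have hstab : disp x ≤ MulAction.stabilizer G U := by
    refine (Subgroup.closure_le _).2 ?_
    rintro _ ⟨g, rfl⟩
    rw [SetLike.mem_coe, MulAction.mem_stabilizer_iff]
    refine Set.eq_of_subset_of_ncard_le ?_ (le_of_eq (Set.ncard_smul_set _ _).symm) (Set.toFinite _)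
    rintro _ ⟨v, hv, rfl⟩
    obtain ⟨k, rfl⟩ := (hmem v).1 hv
    obtain ⟨h, hhx, hhz⟩ := exists_joint_conj h1 g k
    obtain ⟨c, hc, d, hd, rfl⟩ := exists_split h2 h
    refine (hmem _).2 ⟨c, ?_⟩
    show _ = x⁻¹ * (g * x * g⁻¹) * (k * z * k⁻¹)
    rw [← hhx, ← hhz]
    have hcx : c * x * c⁻¹ = x := by rw [mem_cz.1 hc]; group
    calc c * z * c⁻¹ = x⁻¹ * (c * x * c⁻¹) * (c * z * c⁻¹) := by rw [hcx]; group
      _ = x⁻¹ * (c * (x * z) * c⁻¹) := by group
      _ = x⁻¹ * (c * d * (x * z) * (c * d)⁻¹) := by rw [conj_of_mem_cz hd]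
      _ = _ := by group
  have hclosed : ∀ m ∈ disp x, ∀ v ∈ U, m * v ∈ U := by
    intro m hm v hv
    have h := MulAction.mem_stabilizer_iff.1 (hstab hm)
    rw [← h]
    exact ⟨v, hv, rfl⟩
  refine ⟨?_, fun m hm g => ?_⟩
  · have hn : U.ncard = (cz z).index := class_ncard z
    rw [← hn, ← Nat.card_coe_set_eq]
    have he : (QuotientGroup.mk (s := disp x)) ⁻¹' (QuotientGroup.mk '' U) = U := by
      refine Set.Subset.antisymm ?_ (Set.subset_preimage_image _ _)
      rintro w ⟨v, hv, hvw⟩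
      have h := QuotientGroup.eq.1 hvw
      have : w = v * (v⁻¹ * w) * v⁻¹ * v := by group
      rw [this]
      exact hclosed _ ((disp_normal x).conj_mem _ h v) v hv
    rw [← he, Nat.card_congr (QuotientGroup.preimageMkEquivSubgroupProdSet _ _), Nat.card_prod]
    exact dvd_mul_right _ _
  · obtain ⟨k, hk⟩ := (hmem _).1 (hclosed m hm _ ((hmem _).2 ⟨g, rfl⟩))
    exact ⟨k, hk.symm⟩

/-- A normal subgroup of order coprime to a class size centralises the element. -/
theorem le_cz_of_coprime [Finite G] {N : Subgroup G} [N.Normal] {x : G}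
    (h : (Nat.card N).Coprime (cz x).index) : N ≤ cz x := by
  rw [← Subgroup.relIndex_eq_one]
  exact Nat.eq_one_of_dvd_coprimes h (Subgroup.relIndex_dvd_card _ _)
    (relIndex_dvd_index_normal _ _)

theorem conj_commute_of_disp_le {x : G} (h : disp x ≤ cz x) (g k : G) :
    Commute (g * x * g⁻¹) (k * x * k⁻¹) := by
  have h1 : Commute x (g⁻¹ * k * x * (g⁻¹ * k)⁻¹) := by
    have := mem_cz.1 (h (disp_gen x (g⁻¹ * k)))
    have h2 : Commute x (x⁻¹ * (g⁻¹ * k * x * (g⁻¹ * k)⁻¹)) := this.symm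
    simpa using (Commute.refl x).mul_right h2
  have h2 := h1.map (MulAut.conj g).toMonoidHom
  simp only [MulEquiv.coe_toMonoidHom, MulAut.conj_apply] at h2
  rwa [show g * (g⁻¹ * k * x * (g⁻¹ * k)⁻¹) * g⁻¹ = k * x * k⁻¹ by group] at h2

theorem normalClosure_commute {x : G} (h : ∀ g k : G, Commute (g * x * g⁻¹) (k * x * k⁻¹)) :
    ∀ a ∈ Subgroup.normalClosure ({x} : Set G), ∀ b ∈ Subgroup.normalClosure ({x} : Set G),
      Commute a b := by
  have hconj : ∀ a ∈ Group.conjugatesOfSet ({x} : Set G), ∃ g : G, g * x * g⁻¹ = a := by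
    intro a ha
    obtain ⟨_, rfl, hc⟩ := Group.mem_conjugatesOfSet_iff.1 ha
    exact isConj_iff.1 hc
  intro a ha b hb
  induction ha, hb using Subgroup.closure_induction₂ with
  | mem a b ha hb =>
    obtain ⟨g, rfl⟩ := hconj a ha
    obtain ⟨k, rfl⟩ := hconj b hb
    exact h g k
  | one_left => exact Commute.one_left _
  | one_right => exact Commute.one_right _
  | mul_left _ _ _ _ _ _ h1 h2 => exact h1.mul_left h2
  | mul_right _ _ _ _ _ _ h1 h2 => exact h1.mul_right h2
  | inv_left _ _ _ _ h1 => exact h1.inv_left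
  | inv_right _ _ _ _ h1 => exact h1.inv_right

theorem conj_mem_normalClosure (x g : G) : g * x * g⁻¹ ∈ Subgroup.normalClosure ({x} : Set G) :=
  Subgroup.normalClosure_normal.conj_mem x (Subgroup.subset_normalClosure (Set.mem_singleton x)) g

theorem normalClosure_pow {x : G} {p : ℕ} (hx : x ^ p = 1)
    (h : ∀ g k : G, Commute (g * x * g⁻¹) (k * x * k⁻¹)) :
    ∀ a ∈ Subgroup.normalClosure ({x} : Set G), a ^ p = 1 := by
  intro a ha
  induction ha using Subgroup.closure_induction with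
  | mem a ha =>
    obtain ⟨_, rfl, hc⟩ := Group.mem_conjugatesOfSet_iff.1 ha
    obtain ⟨g, rfl⟩ := isConj_iff.1 hc
    rw [conj_pow, hx]; group
  | one => exact one_pow p
  | mul a b ha hb h1 h2 =>
    rw [(normalClosure_commute h a ha b hb).mul_pow, h1, h2, one_mul]
  | inv a _ h1 => rw [inv_pow, h1, inv_one]

theorem disp_le_normalClosure (x : G) : disp x ≤ Subgroup.normalClosure ({x} : Set G) := by
  refine (Subgroup.closure_le _).2 ?_
  rintro _ ⟨g, rfl⟩
  exact mul_mem (inv_mem (Subgroup.subset_normalClosure rfl)) (conj_mem_normalClosure x g)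

theorem disp_isPGroup {x : G} {p : ℕ} (hx : x ^ p = 1) (h : disp x ≤ cz x) :
    IsPGroup p (disp x) := by
  intro m
  refine ⟨1, Subtype.ext ?_⟩
  rw [Subgroup.coe_pow, pow_one, Subgroup.coe_one]
  exact normalClosure_pow hx (conj_commute_of_disp_le h) _ (disp_le_normalClosure x m.2)

theorem mem_center_of_disp {x : G} (h : disp x = ⊥) : x ∈ Subgroup.center G := by
  refine Subgroup.mem_center_iff.2 fun g => ?_
  have h1 := disp_gen x g
  rw [h, Subgroup.mem_bot, inv_mul_eq_one] at h1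
  calc g * x = g * x * g⁻¹ * g := by group
    _ = x * g := by rw [← h1]

/-- A nontrivial `p`-element is not central. -/
theorem not_mem_center [Finite G] {p : ℕ} (hZ : ¬ p ∣ Nat.card ↥(Subgroup.center G)) {x : G}
    (hx : orderOf x = p) : x ∉ Subgroup.center G := fun h =>
  hZ (hx ▸ (Subgroup.orderOf_dvd_natCard _ h))

theorem index_cz_ne_one [Finite G] {p : ℕ} (hZ : ¬ p ∣ Nat.card ↥(Subgroup.center G)) {x : G}
    (hx : orderOf x = p) : (cz x).index ≠ 1 := fun h =>
  not_mem_center hZ hx (Subgroup.mem_center_iff.2 fun g =>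
    mem_cz.1 (Subgroup.index_eq_one.1 h ▸ Subgroup.mem_top g))

theorem isPGroup_eq_bot_of_coprime [Finite G] {p : ℕ} [hp : Fact p.Prime] {N : Subgroup G}
    (hN : IsPGroup p N) {n : ℕ} (hd : Nat.card N ∣ n) (hn : ¬ p ∣ n) : N = ⊥ := by
  obtain ⟨k, hk⟩ := hN.exists_card_eq
  refine Subgroup.eq_bot_of_card_eq _ ?_
  rcases Nat.eq_zero_or_pos k with rfl | hk0
  · rw [hk, pow_zero]
  · exact absurd ((dvd_pow_self p hk0.ne').trans (hk ▸ hd)) hn

theorem mem_sylow_of_centralizes [Finite G] {p : ℕ} [hp : Fact p.Prime] (P : Sylow p G) {x : G}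
    {k : ℕ} (hx : orderOf x = p ^ k) (h : (P : Subgroup G) ≤ cz x) : x ∈ (P : Subgroup G) := by
  have hn : x ∈ Subgroup.normalizer ((P : Subgroup G) : Set G) :=
    Subgroup.centralizer_le_normalizer _ (Subgroup.mem_centralizer_iff.2 fun s hs => mem_cz.1 (h hs))
  have h1 : x ∈ Subgroup.zpowers x ⊓ Subgroup.normalizer ((P : Subgroup G) : Set G) :=
    ⟨Subgroup.mem_zpowers x, hn⟩
  exact (((isPGroup_zpowers hx).inf_normalizer_sylow P).le h1).2

/-- If `x`, `y` have order `p` and coprime class sizes prime to `p`, some conjugate product meets both. -/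
theorem two_pprime [Finite G] {p : ℕ} [hp : Fact p.Prime] (hZ : ¬ p ∣ Nat.card ↥(Subgroup.center G))
    {x z : G} (hx : orderOf x = p) (hpz : ¬ p ∣ (cz z).index)
    (hco : (cz x).index.Coprime (cz z).index) :
    ¬ (cz x).index.Coprime (cz (x * z)).index := by
  intro h2
  obtain ⟨hd, -⟩ := disp_mul_conj hco h2
  have hle : disp x ≤ cz x := le_cz_of_coprime (hco.symm.coprime_dvd_left hd)
  have hp' := disp_isPGroup (hx ▸ pow_orderOf_eq_one x) hle
  exact not_mem_center hZ hx (mem_center_of_disp (isPGroup_eq_bot_of_coprime hp' hd hpz))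

end Cfsg.Agent.Solv.SingularClassGraph
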