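import Cfsg.Agent.Lib.Solv.SingularClassGraph.Basic
import Cfsg.Agent.Lib.Solv.FrobDiv

/-!
When every element of order prime to `p` centralises a Sylow `p`-subgroup, there is only one.
-/

set_option autoImplicit false
set_option linter.style.haveILetI false

namespace Cfsg.Agent.Solv.SingularClassGraph

universe u

variable {L : Type u} [Group L] [Finite L]

theorem sylow_subsingleton {p : ℕ} [hp : Fact p.Prime]
    (h : ∀ v : L, ¬ p ∣ orderOf v → ∃ P : Sylow p L, ∀ s ∈ (P : Subgroup L), Commute s v) :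
    Subsingleton (Sylow p L) := by
  classical
  haveI := Fintype.ofFinite L
  haveI := Fintype.ofFinite (Sylow p L)
  obtain ⟨P₀⟩ : Nonempty (Sylow p L) := inferInstance
  set m := (P₀ : Subgroup L).index with hm
  have hidx : ∀ R : Sylow p L, (R : Subgroup L).index = m := by
    intro R
    refine Nat.eq_of_mul_eq_mul_left (Nat.card_pos (α := ↥(P₀ : Subgroup L))) ?_
    rw [hm, Subgroup.card_mul_index]
    rw [show Nat.card ↥(P₀ : Subgroup L) = Nat.card ↥(R : Subgroup L) by
      rw [Sylow.card_eq_multiplicity, Sylow.card_eq_multiplicity], Subgroup.card_mul_index]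
  have hpm : ¬ p ∣ m := P₀.not_dvd_index
  have hreg : ∀ v : L, v ^ m = 1 → ¬ p ∣ orderOf v := fun v hv hd =>
    hpm (hd.trans (orderOf_dvd_of_pow_eq_one hv))
  set T : Finset L := Finset.univ.filter (fun v => v ≠ 1 ∧ v ^ m = 1) with hT
  set W : Sylow p L → Finset L := fun R =>
    T.filter (fun v => ∀ s ∈ (R : Subgroup L), Commute s v) with hW
  have hsub : T ⊆ Finset.univ.biUnion W := by
    intro v hv
    obtain ⟨R, hR⟩ := h v (hreg v (Finset.mem_filter.1 hv).2.2)
    exact Finset.mem_biUnion.2 ⟨R, Finset.mem_univ R, Finset.mem_filter.2 ⟨hv, hR⟩⟩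
  have hfrob : m ≤ T.card + 1 := by
    have h1 := Solv.frobenius_dvd m (G := L) ⟨_, ((P₀ : Subgroup L).index_mul_card).symm⟩
    haveI : Nonempty {g : L // g ^ m = 1} := ⟨⟨1, one_pow m⟩⟩
    have h2 := Nat.le_of_dvd Nat.card_pos h1
    have h3 : Nat.card {g : L // g ^ m = 1} = (Finset.univ.filter fun g : L => g ^ m = 1).card := by
      rw [Nat.card_eq_fintype_card, Fintype.card_subtype]
    have h4 : (Finset.univ.filter fun g : L => g ^ m = 1) ⊆ insert 1 T := by
      intro g hg
      by_cases hg1 : g = 1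
      · exact Finset.mem_insert.2 (Or.inl hg1)
      · exact Finset.mem_insert.2 (Or.inr (Finset.mem_filter.2
          ⟨Finset.mem_univ g, hg1, (Finset.mem_filter.1 hg).2⟩))
    have h5 := (Finset.card_le_card h4).trans (Finset.card_insert_le _ _)
    omega
  set ν := Nat.card (Sylow p L) with hν
  have hνpos : 0 < ν := Nat.card_pos
  have hk : ∀ R : Sylow p L, ((W R).card + 1) * ν ≤ m := by
    intro R
    set N := Subgroup.normalizer ((R : Subgroup L) : Set L) with hN
    have hcN : ∀ v : L, (∀ s ∈ (R : Subgroup L), Commute s v) → v ∈ N := fun v hv =>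
      Subgroup.centralizer_le_normalizer _ (Subgroup.mem_centralizer_iff.2 fun s hs => (hv s hs).eq)
    let S : Finset L := insert 1 (W R)
    have hS1 : S.card = (W R).card + 1 := by
      refine Finset.card_insert_of_notMem fun h1 => ?_
      exact (Finset.mem_filter.1 (Finset.mem_filter.1 h1).1).2.1 rfl
    have hSm : ∀ v ∈ S, v ^ m = 1 ∧ ∀ s ∈ (R : Subgroup L), Commute s v := by
      intro v hv
      rcases Finset.mem_insert.1 hv with rfl | hv
      · exact ⟨one_pow m, fun s _ => Commute.one_right s⟩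
      · exact ⟨(Finset.mem_filter.1 (Finset.mem_filter.1 hv).1).2.2, (Finset.mem_filter.1 hv).2⟩
    let f : S → N ⧸ (R : Subgroup L).subgroupOf N := fun v =>
      QuotientGroup.mk ⟨v.1, hcN v.1 (hSm v.1 v.2).2⟩
    have hf : Function.Injective f := by
      rintro ⟨v, hv⟩ ⟨w, hw⟩ he
      have h1 : v⁻¹ * w ∈ (R : Subgroup L) := by
        have h0 := (QuotientGroup.eq (s := (R : Subgroup L).subgroupOf N)).1 he
        exact h0
      have hc : Commute (v⁻¹ * w) v := (hSm v hv).2 _ h1
      have h2 : (v⁻¹ * w) ^ m = 1 := by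
        have h3 := (hSm w hw).1
        rw [show w = v * (v⁻¹ * w) by group, hc.symm.mul_pow, (hSm v hv).1, one_mul] at h3
        exact h3
      obtain ⟨j, hj⟩ := IsPGroup.iff_orderOf.1 R.isPGroup' ⟨_, h1⟩
      rw [Subgroup.orderOf_mk] at hj
      have h4 := hreg _ h2
      rw [hj] at h4
      rcases Nat.eq_zero_or_pos j with rfl | hj0
      · rw [pow_zero, orderOf_eq_one_iff, inv_mul_eq_one] at hj
        exact Subtype.ext hj
      · exact absurd (dvd_pow_self p hj0.ne') h4
    have h5 := Nat.card_le_card_of_injective f hf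
    rw [Nat.card_eq_fintype_card (α := S), Fintype.card_coe, hS1] at h5
    calc ((W R).card + 1) * ν ≤ (R : Subgroup L).relIndex N * ν := Nat.mul_le_mul_right _ h5
      _ = m := by
        rw [hν, Sylow.card_eq_index_normalizer R]
        exact (Subgroup.relIndex_mul_index Subgroup.le_normalizer).trans (hidx R)
  have hsum : T.card + ν ≤ ∑ R : Sylow p L, ((W R).card + 1) := by
    rw [Finset.sum_add_distrib, Finset.sum_const, Finset.card_univ, smul_eq_mul, mul_one, hν,
      Nat.card_eq_fintype_card]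
    exact Nat.add_le_add_right ((Finset.card_le_card hsub).trans Finset.card_biUnion_le) _
  have h6 : (∑ R : Sylow p L, ((W R).card + 1)) * ν ≤ ν * m := by
    rw [Finset.sum_mul]
    refine (Finset.sum_le_sum fun R _ => hk R).trans ?_
    rw [Finset.sum_const, Finset.card_univ, smul_eq_mul, hν, Nat.card_eq_fintype_card]
  have h7 : T.card + ν ≤ m := by
    refine Nat.le_of_mul_le_mul_right ?_ hνpos
    calc (T.card + ν) * ν ≤ _ := Nat.mul_le_mul_right _ hsum
      _ ≤ ν * m := h6
      _ = m * ν := mul_comm _ _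
  exact Finite.card_le_one_iff_subsingleton.1 (by omega)

/-- The consequences used later, inside a subgroup containing a Sylow subgroup. -/
theorem central_sylow {G : Type u} [Group G] [Finite G] {p : ℕ} [hp : Fact p.Prime]
    (P : Sylow p G) (M : Subgroup G) (hPM : (P : Subgroup G) ≤ M)
    (h : ∀ v ∈ M, ¬ p ∣ orderOf v → ∃ Q : Sylow p G, (Q : Subgroup G) ≤ M ⊓ cz v) :
    (∀ g ∈ M, (∃ k, orderOf g = p ^ k) → g ∈ (P : Subgroup G)) ∧
      (∀ g ∈ M, ∀ s ∈ (P : Subgroup G), g * s * g⁻¹ ∈ (P : Subgroup G)) ∧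
      ∀ v ∈ M, ¬ p ∣ orderOf v → ∀ s ∈ (P : Subgroup G), Commute s v := by
  have h' : ∀ v : M, ¬ p ∣ orderOf v → ∃ Q : Sylow p M, ∀ s ∈ (Q : Subgroup M), Commute s v := by
    intro v hv
    rw [← Subgroup.orderOf_coe] at hv
    obtain ⟨Q, hQ⟩ := h v.1 v.2 hv
    refine ⟨Q.subtype (hQ.trans inf_le_left), fun s hs => Subtype.ext ?_⟩
    exact mem_cz.1 (hQ hs).2
  haveI := sylow_subsingleton h'
  have hall : ∀ g ∈ M, (∃ k, orderOf g = p ^ k) → g ∈ (P : Subgroup G) := by
    rintro g hg ⟨k, hk⟩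
    obtain ⟨Q, hQ⟩ := (isPGroup_zpowers (u := (⟨g, hg⟩ : M)) (by rw [Subgroup.orderOf_mk, hk])).exists_le_sylow
    rw [Subsingleton.elim Q (P.subtype hPM)] at hQ
    exact hQ (Subgroup.mem_zpowers _)
  refine ⟨hall, fun g hg s hs => hall _ (mul_mem (mul_mem hg (hPM hs)) (inv_mem hg)) ?_, fun v hv hvo s hs => ?_⟩
  · obtain ⟨k, hk⟩ := IsPGroup.iff_orderOf.1 P.isPGroup' ⟨s, hs⟩
    rw [Subgroup.orderOf_mk] at hk
    exact ⟨k, by rw [orderOf_conj, hk]⟩
  · obtain ⟨Q, hQ⟩ := h' ⟨v, hv⟩ (by rwa [Subgroup.orderOf_mk])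
    rw [Subsingleton.elim Q (P.subtype hPM)] at hQ
    exact congrArg Subtype.val (hQ ⟨s, hPM hs⟩ hs).eq

end Cfsg.Agent.Solv.SingularClassGraph
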