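import Cfsg.Agent.Lib.Solv.SingularClassGraph.CentralSylow
import Cfsg.Agent.Lib.Perm.Kazarin

/-!
Two elements of order `p` with coprime class sizes: some `p`-singular class meets both.
-/

set_option autoImplicit false
set_option linter.style.haveILetI false

namespace Cfsg.Agent.Solv.SingularClassGraph

universe u

variable {G : Type u} [Group G] [Finite G] {p : ℕ} [hp : Fact p.Prime]

/-- Elements of a group with normal central Sylow subgroup split. -/
theorem exists_decomp {M : Subgroup G} {P : Sylow p G}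
    (hall : ∀ g ∈ M, (∃ k, orderOf g = p ^ k) → g ∈ (P : Subgroup G))
    (hpr : ∀ v ∈ M, ¬ p ∣ orderOf v → ∀ s ∈ (P : Subgroup G), Commute s v) {g : G} (hg : g ∈ M) :
    ∃ a d : G, a ∈ Subgroup.zpowers g ∧ d ∈ Subgroup.zpowers g ∧ a * d = g ∧
      a ∈ (P : Subgroup G) ∧ ∀ s ∈ (P : Subgroup G), Commute s d := by
  obtain ⟨a, d, ha, hd, had, hak, hdc⟩ := Solv.exists_ppart p g
  refine ⟨a, d, ha, hd, had, hall a (Subgroup.zpowers_le.2 hg ha) hak,
    hpr d (Subgroup.zpowers_le.2 hg hd) fun h => ?_⟩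
  exact hp.out.coprime_iff_not_dvd.1 hdc.symm h

omit [Finite G] hp in
theorem commute_of_cz {x c : G} (h : c ∈ cz x) : Commute c x := mem_cz.1 h

/-- The product of the conjugates forces `x` into its displacement subgroup. -/
theorem mem_disp (hZ : ¬ p ∣ Nat.card ↥(Subgroup.center G)) {x : G} (hx : orderOf x = p)
    (hn : ¬ p ∣ (cz x).index) (hle : disp x ≤ cz x) : x ∈ disp x := by
  classical
  haveI := Fintype.ofFinite (G ⧸ cz x)
  set A := Subgroup.normalClosure ({x} : Set G) with hA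
  have hcomm := normalClosure_commute (conj_commute_of_disp_le hle)
  letI : CommGroup A := { (inferInstance : Group A) with
    mul_comm := fun a b => Subtype.ext (hcomm a a.2 b b.2).eq }
  let f : G ⧸ cz x → A := fun i => ⟨i.out * x * i.out⁻¹, conj_mem_normalClosure x _⟩
  have hmove : ∀ (g : G) (i : G ⧸ cz x),
      g * (f i : G) * g⁻¹ = (f (g • i) : G) := by
    intro g i
    show g * (i.out * x * i.out⁻¹) * g⁻¹ = (g • i).out * x * (g • i).out⁻¹
    obtain ⟨c, hc⟩ := QuotientGroup.mk_out_eq_mul (cz x) (g * i.out)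
    have he : g • i = (QuotientGroup.mk (g * i.out) : G ⧸ cz x) := by
      conv_lhs => rw [← i.out_eq]
      rfl
    rw [he, hc, conj_of_mem_cz c.2]; group
  set z : A := ∏ i, f i with hz
  have hzc : (z : G) ∈ Subgroup.center G := by
    refine Subgroup.mem_center_iff.2 fun g => ?_
    let φ : A →* A := MonoidHom.mk' (fun a => ⟨g * a * g⁻¹, Subgroup.normalClosure_normal.conj_mem _ a.2 g⟩)
      fun a b => Subtype.ext (by show g * ((a : G) * b) * g⁻¹ = g * a * g⁻¹ * (g * b * g⁻¹); group)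
    have h1 : φ z = z := by
      rw [hz, map_prod]
      exact Fintype.prod_equiv (MulAction.toPerm g) _ _ fun i => Subtype.ext (hmove g i)
    have h2 : g * (z : G) * g⁻¹ = z := congrArg Subtype.val h1
    calc g * (z : G) = g * z * g⁻¹ * g := by group
      _ = z * g := by rw [h2]
  have hxp : x ^ p = 1 := hx ▸ pow_orderOf_eq_one x
  have hz1 : (z : G) = 1 := by
    by_contra h
    have : orderOf (z : G) = p := orderOf_eq_prime
      (normalClosure_pow hxp (conj_commute_of_disp_le hle) _ z.2) h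
    exact hZ (this ▸ Subgroup.orderOf_dvd_natCard _ hzc)
  set x' : A := ⟨x, Subgroup.subset_normalClosure (Set.mem_singleton x)⟩ with hx'
  have hprod : ∏ i, (x'⁻¹ * f i) ∈ (disp x).subgroupOf A :=
    prod_mem fun i _ => disp_gen x _
  rw [Finset.prod_mul_distrib, Finset.prod_const, Finset.card_univ, ← hz] at hprod
  have h1 : (x⁻¹) ^ (cz x).index ∈ disp x := by
    have h2 : ((x'⁻¹ ^ Fintype.card (G ⧸ cz x) * z : A) : G) ∈ disp x := hprod
    rw [Subgroup.coe_mul, hz1, mul_one, Subgroup.coe_pow] at h2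
    rwa [Subgroup.index, Nat.card_eq_fintype_card]
  rw [inv_pow, inv_mem_iff] at h1
  obtain ⟨a, b, hab⟩ : IsCoprime ((cz x).index : ℤ) (p : ℤ) :=
    Int.isCoprime_iff_gcd_eq_one.2 (hp.out.coprime_iff_not_dvd.2 hn).symm
  have he : x = (x ^ (cz x).index) ^ a := by
    rw [← zpow_natCast, ← zpow_mul]
    calc x = x ^ (a * ((cz x).index : ℤ) + b * (p : ℤ)) := by rw [hab, zpow_one]
      _ = _ := by
        rw [zpow_add, mul_comm a, mul_comm b, zpow_mul x (p : ℤ), zpow_natCast x p, hxp, one_zpow,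
          mul_one]
  have h3 := zpow_mem h1 a
  rwa [← he] at h3

/-- The role of an element of order `p` in `P` whose class size is divisible by `p`. -/
theorem u_role (hZ : ¬ p ∣ Nat.card ↥(Subgroup.center G)) {y : G} (hy : orderOf y = p)
    (hpy : ¬ p ∣ (cz y).index) {P : Sylow p G} (hP : (P : Subgroup G) ≤ cz y)
    (hnorm : ∀ g ∈ cz y, ∀ s ∈ (P : Subgroup G), g * s * g⁻¹ ∈ (P : Subgroup G))
    (hall : ∀ g ∈ cz y, (∃ k, orderOf g = p ^ k) → g ∈ (P : Subgroup G))
    (hpr : ∀ v ∈ cz y, ¬ p ∣ orderOf v → ∀ s ∈ (P : Subgroup G), Commute s v)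
    (hstar : ∀ w : G, p ∣ orderOf w → p ∣ (cz w).index → (cz y).index.Coprime (cz w).index)
    {u : G} (hu : orderOf u = p) (huP : u ∈ (P : Subgroup G)) (hpu : p ∣ (cz u).index) :
    (∀ g : G, g * u * g⁻¹ ∈ (P : Subgroup G)) ∧ (∃ k, (cz u).index = p ^ k) ∧
      (∀ g k : G, Commute (g * y * g⁻¹) (k * y * k⁻¹)) ∧
      (∀ a ∈ Subgroup.normalClosure ({y} : Set G), Commute a u) ∧
      ∀ a ∈ Subgroup.normalClosure ({y} : Set G), ∃ k : G, a * u = k * u * k⁻¹ := by
  have hpu' : p ∣ orderOf u := hu ▸ dvd_rfl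
  have hco : (cz y).index.Coprime (cz u).index := hstar u hpu' hpu
  have hPu : ∀ g : G, ∃ a ∈ (P : Subgroup G), ∃ c ∈ cz u, g = a * c := by
    intro g
    obtain ⟨l, hl, c, hc, rfl⟩ := exists_split hco g
    obtain ⟨a, d, -, -, had, haP, hdP⟩ := exists_decomp hall hpr hl
    refine ⟨a, haP, d * c, mul_mem (mem_cz.2 (hdP u huP).eq.symm) hc, ?_⟩
    rw [← had]; group
  have hconjP : ∀ g : G, g * u * g⁻¹ ∈ (P : Subgroup G) := by
    intro g
    obtain ⟨a, ha, c, hc, rfl⟩ := hPu g
    rw [conj_of_mem_cz hc]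
    exact mul_mem (mul_mem ha huP) (inv_mem ha)
  have hpk : ∃ k, (cz u).index = p ^ k := by
    let f : (P : Subgroup G) ⧸ (cz u).subgroupOf P → G ⧸ cz u :=
      Quotient.map' (fun c => (c : G)) fun a b hab => by
        rw [QuotientGroup.leftRel_apply] at hab ⊢; exact hab
    have hbij : Function.Bijective f := by
      constructor
      · intro a b hab
        induction a using Quotient.inductionOn' with | h a =>
        induction b using Quotient.inductionOn' with | h b =>
        have h' : (QuotientGroup.mk (a : G) : G ⧸ cz u) = QuotientGroup.mk (b : G) := hab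
        exact QuotientGroup.eq.2 (QuotientGroup.eq.1 h' :)
      · intro i
        induction i using Quotient.inductionOn' with | h g =>
        obtain ⟨a, ha, c, hc, rfl⟩ := hPu g
        refine ⟨QuotientGroup.mk ⟨a, ha⟩, ?_⟩
        show (QuotientGroup.mk a : G ⧸ cz u) = QuotientGroup.mk (a * c)
        rw [QuotientGroup.eq, inv_mul_cancel_left]
        exact hc
    have h1 : (cz u).index = ((cz u).subgroupOf P).index := (Nat.card_eq_of_bijective f hbij).symm
    obtain ⟨k, hk⟩ := P.isPGroup'.exists_card_eq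
    have h2 : ((cz u).subgroupOf P).index ∣ p ^ k := hk ▸ Subgroup.index_dvd_card _
    obtain ⟨j, -, hj⟩ := (Nat.dvd_prime_pow hp.out).1 h2
    exact ⟨j, h1.trans hj⟩
  obtain ⟨k, hk⟩ := hpk
  have hc : Commute y u := (commute_of_cz (hP huP)).symm
  have hw : orderOf (u * y) = p := by
    refine orderOf_eq_prime ?_ fun h => ?_
    · have e1 : u ^ p = 1 := hu ▸ pow_orderOf_eq_one u
      have e2 : y ^ p = 1 := hy ▸ pow_orderOf_eq_one y
      rw [hc.symm.mul_pow, e1, e2, one_mul]
    · rw [mul_eq_one_iff_eq_inv] at h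
      exact hpy (by rw [← cz_inv y, ← h]; exact hpu)
  by_cases hpw : p ∣ (cz (u * y)).index
  swap
  · exfalso
    have h2 : (cz u).index.Coprime (cz (u * y)).index := by
      rw [hk]; exact (hp.out.coprime_iff_not_dvd.2 hpw).pow_left k
    obtain ⟨hd, -⟩ := disp_mul_conj hco.symm h2
    have hpg : IsPGroup p (disp u) := by
      refine P.isPGroup'.to_le ((Subgroup.closure_le _).2 ?_)
      rintro _ ⟨g, rfl⟩
      exact mul_mem (inv_mem huP) (hconjP g)
    exact not_mem_center hZ hu (mem_center_of_disp (isPGroup_eq_bot_of_coprime hpg hd hpy))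
  rw [← hc.eq] at hpw hw
  obtain ⟨hd, hmv⟩ := disp_mul_conj hco (hstar _ (hw ▸ dvd_rfl) hpw)
  have hle : disp y ≤ cz y := le_cz_of_coprime (hco.symm.coprime_dvd_left hd)
  have hyM := mem_disp hZ hy hpy hle
  have hA : Subgroup.normalClosure ({y} : Set G) ≤ disp y :=
    Subgroup.normalClosure_le_normal (Set.singleton_subset_iff.2 hyM)
  refine ⟨hconjP, ⟨k, hk⟩, conj_commute_of_disp_le hle, ?_, fun a ha => ?_⟩
  · intro a ha
    have : Subgroup.normalClosure ({y} : Set G) ≤ cz u := by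
      refine (Subgroup.closure_le _).2 fun b hb => ?_
      obtain ⟨_, rfl, hcb⟩ := Group.mem_conjugatesOfSet_iff.1 hb
      obtain ⟨g, rfl⟩ := isConj_iff.1 hcb
      obtain ⟨c, hc', d, hd', rfl⟩ := exists_split hco.symm g
      rw [conj_of_mem_cz hd']
      exact mul_mem (mul_mem hc' (mem_cz.2 hc.eq)) (inv_mem hc')
    exact commute_of_cz (this ha)
  · obtain ⟨j, hj⟩ := hmv a (hA ha) 1
    exact ⟨j, by simpa using hj⟩

/-- The decisive case: class sizes `n` prime to `p` and `n'` divisible by `p`. -/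
theorem main_false (hZ : ¬ p ∣ Nat.card ↥(Subgroup.center G)) {y u₀ : G} (hy : orderOf y = p)
    (hu₀ : orderOf u₀ = p) (hpy : ¬ p ∣ (cz y).index) (hpu₀ : p ∣ (cz u₀).index)
    (hstar : ∀ w : G, p ∣ orderOf w → p ∣ (cz w).index → (cz y).index.Coprime (cz w).index) :
    False := by
  classical
  have hn1 : (cz y).index ≠ 1 := index_cz_ne_one hZ hy
  -- the Sylow subgroup of `C(y)`
  obtain ⟨P, hP⟩ := Perm.NilpotentHall.exists_sylow_le (G := G) hpy
  have hv : ∀ v ∈ cz y, ¬ p ∣ orderOf v →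
      ∃ Q : Sylow p G, (Q : Subgroup G) ≤ cz y ⊓ cz v := by
    intro v hv hvo
    have hc : Commute y v := (commute_of_cz hv).symm
    have hco : (orderOf y).Coprime (orderOf v) := hy ▸ hp.out.coprime_iff_not_dvd.2 hvo
    have h1 : cz (y * v) ≤ cz y := cz_mul_le_of_coprime hc hco
    have h2 : cz (y * v) ≤ cz v := by
      rw [hc.eq]; exact cz_mul_le_of_coprime hc.symm hco.symm
    have hord : p ∣ orderOf (y * v) := by
      rw [hc.orderOf_mul_eq_mul_orderOf_of_coprime hco, hy]; exact dvd_mul_right p _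
    have hndvd : ¬ p ∣ (cz (y * v)).index := fun h =>
      hn1 (Nat.eq_one_of_dvd_coprimes (hstar _ hord h) dvd_rfl (Subgroup.index_dvd_of_le h1))
    obtain ⟨Q, hQ⟩ := Perm.NilpotentHall.exists_sylow_le (G := G) hndvd
    exact ⟨Q, hQ.trans (le_inf h1 h2)⟩
  obtain ⟨hall, hnorm, hpr⟩ := central_sylow P (cz y) hP hv
  -- move `u₀` into `P`
  obtain ⟨g₀, hg₀⟩ : ∃ g : G, g * u₀ * g⁻¹ ∈ (P : Subgroup G) := by
    obtain ⟨k, -, hk⟩ := Perm.NilpotentHall.conj_into ⊤ P le_top (Subgroup.zpowers u₀)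
      (isPGroup_zpowers (k := 1) (by rw [hu₀, pow_one])) le_top
    exact ⟨k, hk u₀ (Subgroup.mem_zpowers u₀)⟩
  set u := g₀ * u₀ * g₀⁻¹ with hudef
  have hu : orderOf u = p := by rw [hudef, orderOf_conj, hu₀]
  have hpu : p ∣ (cz u).index := by rw [hudef, index_cz_conj]; exact hpu₀
  obtain ⟨huconj, ⟨k, hk⟩, hcyy, huA, hAu⟩ := u_role hZ hy hpy hP hnorm hall hpr hstar hu hg₀ hpu
  set A := Subgroup.normalClosure ({y} : Set G) with hA
  haveI hAn : A.Normal := Subgroup.normalClosure_normal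
  have hAcomm := normalClosure_commute hcyy
  have hApow := normalClosure_pow (hy ▸ pow_orderOf_eq_one y) hcyy
  have hyA : y ∈ A := Subgroup.subset_normalClosure (Set.mem_singleton y)
  set H := Subgroup.centralizer (A : Set G) with hH
  haveI hHn : H.Normal := by rw [hH]; infer_instance
  have hHy : H ≤ cz y := fun h hh => mem_cz.2 (Subgroup.mem_centralizer_iff.1 hh y hyA).symm
  have hAH : A ≤ H := fun a ha =>
    Subgroup.mem_centralizer_iff.2 fun b hb => (hAcomm b hb a ha).eq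
  have hAP : A ≤ (P : Subgroup G) := by
    intro a ha
    refine hall a (hHy (hAH ha)) ?_
    obtain ⟨j, -, hj⟩ := (Nat.dvd_prime_pow hp.out).1
      (orderOf_dvd_of_pow_eq_one (show a ^ p ^ 1 = 1 by rw [pow_one]; exact hApow a ha))
    exact ⟨j, hj⟩
  have huH : u ∈ H := Subgroup.mem_centralizer_iff.2 fun a ha => (huA a ha).eq
  -- classes in `A` have size prime to `p`
  have hAne : ∀ a ∈ A, ¬ p ∣ (cz a).index := by
    intro a ha hpa
    have ha1 : a ≠ 1 := by
      rintro rfl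
      have : cz (1 : G) = ⊤ := eq_top_iff.2 fun g _ => mem_cz.2 (Commute.one_right g).eq
      rw [this, Subgroup.index_top] at hpa
      exact hp.out.not_dvd_one hpa
    obtain ⟨-, -, -, -, h5⟩ := u_role hZ hy hpy hP hnorm hall hpr hstar
      (orderOf_eq_prime (hApow a ha) ha1) (hAP ha) hpa
    obtain ⟨j, hj⟩ := h5 a⁻¹ (inv_mem ha)
    rw [inv_mul_cancel, eq_comm, conj_eq_one_iff] at hj
    exact ha1 hj
  -- the index of `H`
  have hdec : ∀ g ∈ cz y, ∃ a ∈ (P : Subgroup G), ∃ d ∈ H, a * d = g := by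
    intro g hg
    obtain ⟨a, d, -, -, had, haP, hdP⟩ := exists_decomp hall hpr hg
    exact ⟨a, haP, d, Subgroup.mem_centralizer_iff.2 fun b hb => (hdP b (hAP hb)).eq, had⟩
  have hHidx : H.index ∣ Nat.card ↥(P : Subgroup G) * (cz y).index := by
    have hsup : (P : Subgroup G) ⊔ H = cz y := le_antisymm (sup_le hP hHy) fun g hg => by
      obtain ⟨a, ha, d, hd, rfl⟩ := hdec g hg
      exact Subgroup.mul_mem_sup ha hd
    rw [← Subgroup.relIndex_mul_index hHy, ← hsup, Subgroup.relIndex_sup_right]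
    exact mul_dvd_mul_right (Subgroup.relIndex_dvd_card _ _) _
  have hyH : (cz y).index ∣ H.index := Subgroup.index_dvd_of_le hHy
  -- no normal `p`-subgroup above `H`
  have hcore : ∀ N : Subgroup (G ⧸ H), N.Normal → IsPGroup p N → N = ⊥ := by
    intro N hN hNp
    refine (Subgroup.eq_bot_iff_forall N).2 fun i hi => ?_
    obtain ⟨g, rfl⟩ := QuotientGroup.mk_surjective i
    rw [QuotientGroup.eq_one_iff]
    refine Subgroup.mem_centralizer_iff.2 fun a ha => ?_
    obtain ⟨Pa, hPa⟩ := Perm.NilpotentHall.exists_sylow_le (G := G) (hAne a ha)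
    have h1 := hNp.le_sylow_of_normal (Pa.mapSurjective (QuotientGroup.mk'_surjective H)) hi
    obtain ⟨t, ht, htg⟩ := h1
    have h2 : g = t * (t⁻¹ * g) := by group
    have h3 : t⁻¹ * g ∈ H := QuotientGroup.eq.1 htg
    rw [h2]
    exact ((commute_of_cz (hPa ht)).symm.mul_right
      (Subgroup.mem_centralizer_iff.1 h3 a ha)).eq
  -- a normal `q`-subgroup of `G/H` from Kazarin's theorem
  obtain ⟨q₀, hq₀, hq₀d⟩ := Nat.exists_prime_and_dvd hn1
  haveI := Fact.mk hq₀
  have hcop : (cz y).index.Coprime (p ^ k) := (hp.out.coprime_iff_not_dvd.2 hpy).symm.pow_right k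
  have hnq : ∀ q : ℕ, q.Prime → q ∣ (cz y).index → ¬ q ∣ (cz u).index := by
    intro q hq hqd hqu
    rw [hk] at hqu
    exact hq.one_lt.ne' (Nat.eq_one_of_dvd_coprimes hcop hqd hqu)
  obtain ⟨R, hR⟩ := Perm.NilpotentHall.exists_sylow_le (G := G) (hnq q₀ hq₀ hq₀d)
  obtain ⟨v, hvR, hvH⟩ : ∃ v ∈ (R : Subgroup G), v ∉ H :=
    SetLike.not_le_iff_exists.1 fun h =>
      R.not_dvd_index ((hq₀d.trans hyH).trans (Subgroup.index_dvd_of_le h))
  have hpq₀ : p ≠ q₀ := fun h => hpy (h ▸ hq₀d)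
  obtain ⟨j, hj⟩ := IsPGroup.iff_orderOf.1 R.isPGroup' ⟨v, hvR⟩
  rw [Subgroup.orderOf_mk] at hj
  have huv : Commute u v := (commute_of_cz (hR hvR)).symm
  have hco : (orderOf u).Coprime (orderOf v) := by
    rw [hu, hj]; exact ((Nat.coprime_primes hp.out hq₀).2 hpq₀).pow_right j
  have hord : p ∣ orderOf (u * v) := by
    rw [huv.orderOf_mul_eq_mul_orderOf_of_coprime hco, hu]; exact dvd_mul_right p _
  have hpx : p ∣ (cz (u * v)).index :=
    hpu.trans (Subgroup.index_dvd_of_le (cz_mul_le_of_coprime huv hco))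
  have hvn : (cz y).index.Coprime (cz v).index := by
    refine (hstar _ hord hpx).coprime_dvd_right (Subgroup.index_dvd_of_le ?_)
    rw [huv.eq]; exact cz_mul_le_of_coprime huv.symm hco.symm
  obtain ⟨kP, hkP⟩ := P.isPGroup'.exists_card_eq
  obtain ⟨b, hb⟩ : ∃ b, (cz (QuotientGroup.mk v : G ⧸ H)).index = p ^ b := by
    have h1 : (cz (QuotientGroup.mk v : G ⧸ H)).index ∣ (cz v).index := by
      refine (Subgroup.index_dvd_of_le ?_).trans
        (Subgroup.index_map_dvd (cz v) (QuotientGroup.mk'_surjective H))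
      rintro _ ⟨c, hc, rfl⟩
      exact mem_cz.2 (by
        rw [QuotientGroup.mk'_apply, ← QuotientGroup.mk_mul, ← QuotientGroup.mk_mul, mem_cz.1 hc])
    have h2 : (cz (QuotientGroup.mk v : G ⧸ H)).index ∣ p ^ kP * (cz y).index :=
      (Subgroup.index_dvd_card _).trans (hkP ▸ hHidx)
    have h3 := ((hvn.coprime_dvd_right h1).symm).dvd_of_dvd_mul_right h2
    obtain ⟨b, -, hb⟩ := (Nat.dvd_prime_pow hp.out).1 h3
    exact ⟨b, hb⟩
  haveI := Perm.Kazarin.rad_normal (G := G ⧸ H)
  have hrad : solvableRadical (G ⧸ H) ≠ ⊥ := by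
    intro h
    have h1 := Perm.Kazarin.mem_rad hb
    rw [h, Subgroup.mem_bot, QuotientGroup.eq_one_iff] at h1
    exact hvH h1
  obtain ⟨N, hN, hNb, hNR, hmin⟩ := Solv.exists_minimal_normal_le _ hrad
  haveI := hN
  obtain ⟨-, q, hq, -, hNq⟩ := Solv.minimal_normal_elementaryAbelian N
    (Solv.isSolvable_of_le hNR Perm.Kazarin.rad_solvable) hNb hmin
  haveI := Fact.mk hq
  have hqp : q ≠ p := by rintro rfl; exact hNb (hcore N hN hNq)
  obtain ⟨kN, hkN⟩ := hNq.exists_card_eq
  have hqn : q ∣ (cz y).index := by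
    have hkN0 : kN ≠ 0 := by
      rintro rfl
      exact hNb (Subgroup.eq_bot_of_card_eq _ (by simpa using hkN))
    have h1 : q ∣ p ^ kP * (cz y).index :=
      (((dvd_pow_self q hkN0).trans (hkN ▸ N.card_subgroup_dvd_card))).trans (hkP ▸ hHidx)
    rcases hq.dvd_mul.1 h1 with h2 | h2
    · exact absurd ((Nat.prime_dvd_prime_iff_eq hq hp.out).1 (hq.dvd_of_dvd_pow h2)) hqp
    · exact h2
  -- the preimage
  set T := N.comap (QuotientGroup.mk' H) with hT
  haveI hTn : T.Normal := hN.comap _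
  have hHT : H ≤ T := fun h hh => by
    show (QuotientGroup.mk h : G ⧸ H) ∈ N
    rw [(QuotientGroup.eq_one_iff h).2 hh]; exact N.one_mem
  have hTS : ∀ x : G, ¬ q ∣ (cz x).index →
      ∃ Q : Sylow q T, ∀ r ∈ (Q : Subgroup T), Commute (r : G) x := by
    intro x hx
    obtain ⟨Q, hQ⟩ := Perm.NilpotentHall.exists_sylow_le (G := T) (H := (cz x).subgroupOf T)
      (fun h => hx (h.trans (Solv.relIndex_dvd_index_normal _ _)))
    exact ⟨Q, fun r hr => commute_of_cz (hQ hr)⟩
  obtain ⟨Q, hQu⟩ := hTS u (hnq q hq hqn)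
  have hQH : (Q : Subgroup T) ⊔ H.subgroupOf T = ⊤ := by
    rw [← Subgroup.index_eq_one]
    have h1 : (H.subgroupOf T).index = Nat.card N := by
      have h3 : (⊥ : Subgroup N).comap ((QuotientGroup.mk' H).subgroupComap N) = H.subgroupOf T := by
        ext t
        rw [Subgroup.mem_comap, Subgroup.mem_bot, Subgroup.mem_subgroupOf, Subtype.ext_iff]
        exact QuotientGroup.eq_one_iff _
      rw [← h3, Subgroup.index_comap_of_surjective _
        (MonoidHom.subgroupComap_surjective_of_surjective _ _ (QuotientGroup.mk'_surjective H)),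
        Subgroup.index_bot]
    refine Nat.eq_one_of_dvd_coprimes ((hq.coprime_iff_not_dvd.2 Q.not_dvd_index).pow_left kN) ?_ ?_
    · rw [← hkN, ← h1]; exact Subgroup.index_dvd_of_le le_sup_right
    · exact Subgroup.index_dvd_of_le le_sup_left
  haveI : (H.subgroupOf T).Normal := Subgroup.normal_subgroupOf
  have hTdec : ∀ t : T, ∃ h ∈ H, ∃ r ∈ (Q : Subgroup T), (t : G) = h * r := by
    intro t
    have ht : t ∈ H.subgroupOf T ⊔ (Q : Subgroup T) := by rw [sup_comm, hQH]; exact Subgroup.mem_top t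
    obtain ⟨h, hh, r, hr, rfl⟩ := Subgroup.mem_sup_of_normal_left.1 ht
    exact ⟨h, hh, r, hr, rfl⟩
  -- the normal Sylow subgroup of `H`
  set S := (P : Subgroup G) ⊓ H with hS
  set K := S ⊓ Subgroup.centralizer (((Q : Subgroup T).map T.subtype : Subgroup G) : Set G) with hK
  have hmove : ∀ x ∈ S, ¬ q ∣ (cz x).index → ∃ s ∈ S, s⁻¹ * x * s ∈ K := by
    intro x hxS hx
    obtain ⟨Q₁, hQ₁⟩ := hTS x hx
    obtain ⟨t, rfl⟩ := MulAction.exists_smul_eq T Q Q₁
    obtain ⟨h, hh, r₀, hr₀, ht⟩ := hTdec t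
    obtain ⟨a, d, haz, -, had, haP, hdP⟩ := exists_decomp hall hpr (hHy hh)
    have haS : a ∈ S := ⟨haP, Subgroup.zpowers_le.2 hh haz⟩
    have hxa : a⁻¹ * x * a ∈ S :=
      Subgroup.mem_inf.2 ⟨mul_mem (mul_mem (inv_mem haP) hxS.1) haP,
        mul_mem (mul_mem (inv_mem haS.2) hxS.2) haS.2⟩
    refine ⟨a, haS, hxa, Subgroup.mem_centralizer_iff.2 ?_⟩
    rintro _ ⟨r, hr, rfl⟩
    -- `h r h⁻¹` lies in the conjugate Sylow subgroup
    have hmem : t * (r₀⁻¹ * r * r₀) * t⁻¹ ∈ ((t • Q : Sylow q T) : Subgroup T) := by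
      rw [Sylow.coe_subgroup_smul]
      exact ⟨r₀⁻¹ * r * r₀, mul_mem (mul_mem (inv_mem hr₀) hr) hr₀, rfl⟩
    have h1 := hQ₁ _ hmem
    rw [Subgroup.coe_mul, Subgroup.coe_mul, Subgroup.coe_inv, Subgroup.coe_mul, Subgroup.coe_mul,
      Subgroup.coe_inv, ht] at h1
    have h2 : Commute (h * (r : G) * h⁻¹) x := by
      convert h1 using 1; group
    have h3 := h2.map (MulAut.conj h⁻¹).toMonoidHom
    simp only [MulEquiv.coe_toMonoidHom, MulAut.conj_apply, inv_inv] at h3
    rw [show h⁻¹ * (h * (r : G) * h⁻¹) * h = r by group] at h3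
    have h4 : h⁻¹ * x * h = a⁻¹ * x * a := by
      have h5 : Commute (a⁻¹ * x * a) d := hdP _ hxa.1
      rw [← had]
      calc (a * d)⁻¹ * x * (a * d) = d⁻¹ * (a⁻¹ * x * a * d) := by group
        _ = d⁻¹ * (d * (a⁻¹ * x * a)) := by rw [h5.eq]
        _ = _ := by group
    rw [h4] at h3
    exact h3.eq
  have hScover : S ≤ Subgroup.normalizer (K : Set G) := by
    set Z := S ⊓ Subgroup.centralizer (S : Set G) with hZdef
    have hKS : K ≤ S := inf_le_left
    have h1 : (K ⊔ Z).subgroupOf S = ⊤ := by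
      refine Solv.eq_top_of_forall_conj_mem _ fun x => ?_
      by_cases hpx : p ∣ (cz (x : G)).index
      · have hx1 : p ∣ orderOf (x : G) := by
          obtain ⟨i, hi⟩ := IsPGroup.iff_orderOf.1 P.isPGroup' ⟨x.1, x.2.1⟩
          rw [Subgroup.orderOf_mk] at hi
          rw [hi]
          refine dvd_pow_self p fun h0 => ?_
          rw [h0, pow_zero, orderOf_eq_one_iff] at hi
          have : cz (x : G) = ⊤ := eq_top_iff.2 fun g _ =>
            mem_cz.2 (by rw [hi, mul_one, one_mul])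
          rw [this, Subgroup.index_top] at hpx
          exact hp.out.not_dvd_one hpx
        obtain ⟨s, hs, hsK⟩ := hmove x x.2 fun h =>
          hq.one_lt.ne' (Nat.eq_one_of_dvd_coprimes (hstar _ hx1 hpx) hqn h)
        refine ⟨⟨s, hs⟩⁻¹, Subgroup.mem_subgroupOf.2 ?_⟩
        rw [inv_inv]
        exact Subgroup.mem_sup_left hsK
      · refine ⟨1, Subgroup.mem_subgroupOf.2 ?_⟩
        rw [one_mul, inv_one, mul_one]
        refine Subgroup.mem_sup_right ⟨x.2, Subgroup.mem_centralizer_iff.2 fun s hs => ?_⟩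
        obtain ⟨P', hP'⟩ := Perm.NilpotentHall.exists_sylow_le (G := G) hpx
        haveI : S.Normal := ⟨fun a ha g =>
          have hgH : g * a * g⁻¹ ∈ H := hHn.conj_mem a ha.2 g
          ⟨hall _ (hHy hgH) (by
            obtain ⟨i, hi⟩ := IsPGroup.iff_orderOf.1 P.isPGroup' ⟨a, ha.1⟩
            rw [Subgroup.orderOf_mk] at hi
            exact ⟨i, by rw [orderOf_conj, hi]⟩), hgH⟩⟩
        have hSP' : S ≤ (P' : Subgroup G) := (P.isPGroup'.to_le inf_le_left).le_sylow_of_normal P'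
        exact mem_cz.1 (hP' (hSP' hs))
    rw [Subgroup.subgroupOf_eq_top] at h1
    refine h1.trans (sup_le Subgroup.le_normalizer fun z hz => ?_)
    refine Subgroup.centralizer_le_normalizer _ (Subgroup.mem_centralizer_iff.2 fun c hc => ?_)
    exact Subgroup.mem_centralizer_iff.1 hz.2 c (hKS hc)
  -- `Q` centralises `A`
  have hQA : ∀ r ∈ (Q : Subgroup T), (r : G) ∈ H := by
    intro r hr
    refine Subgroup.mem_centralizer_iff.2 fun a ha => ?_
    obtain ⟨i, hi⟩ := hAu a ha
    have hauS : a * u ∈ S := ⟨mul_mem (hAP ha) hg₀, mul_mem (hAH ha) huH⟩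
    obtain ⟨s, hs, hsK⟩ := hmove (a * u) hauS (by rw [hi, index_cz_conj]; exact hnq q hq hqn)
    have hauK : a * u ∈ K := by
      have := (Subgroup.mem_normalizer_iff.1 (hScover hs) _).1 hsK
      rwa [show s * (s⁻¹ * (a * u) * s) * s⁻¹ = a * u by group] at this
    have hrm : (r : G) ∈ ((Q : Subgroup T).map T.subtype : Subgroup G) := ⟨r, hr, rfl⟩
    have h1 : Commute (r : G) (a * u) := Subgroup.mem_centralizer_iff.1 hauK.2 _ hrm
    have h2 : Commute (r : G) (a * u * u⁻¹) := h1.mul_right (hQu r hr).inv_right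
    rw [mul_inv_cancel_right] at h2
    exact h2.eq.symm
  have hTH : T ≤ H := by
    intro t ht
    obtain ⟨h, hh, r, hr, he⟩ := hTdec ⟨t, ht⟩
    have he' : t = h * r := he
    rw [he']
    exact mul_mem hh (hQA r hr)
  refine hNb ((Subgroup.eq_bot_iff_forall N).2 fun i hi => ?_)
  obtain ⟨g, rfl⟩ := QuotientGroup.mk_surjective i
  exact (QuotientGroup.eq_one_iff g).2 (hTH hi)

/-- Two elements of order `p` with coprime class sizes have a `p`-singular class meeting both. -/
theorem exists_meeting (hZ : ¬ p ∣ Nat.card ↥(Subgroup.center G)) {y z : G} (hy : orderOf y = p)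
    (hz : orderOf z = p) (hco : (cz y).index.Coprime (cz z).index) :
    ∃ w : G, p ∣ orderOf w ∧ ¬ (cz y).index.Coprime (cz w).index ∧
      ¬ (cz z).index.Coprime (cz w).index := by
  by_cases hpy : p ∣ (cz y).index
  · have hpz : ¬ p ∣ (cz z).index := fun h =>
      hp.out.one_lt.ne' (Nat.eq_one_of_dvd_coprimes hco hpy h)
    by_contra hne
    refine main_false hZ hz hy hpz hpy fun w hw hpw => ?_
    by_contra h
    exact hne ⟨w, hw, fun h' => hp.out.one_lt.ne' (Nat.eq_one_of_dvd_coprimes h' hpy hpw), h⟩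
  by_cases hpz : p ∣ (cz z).index
  · by_contra hne
    refine main_false hZ hy hz hpy hpz fun w hw hpw => ?_
    by_contra h
    exact hne ⟨w, hw, h, fun h' => hp.out.one_lt.ne' (Nat.eq_one_of_dvd_coprimes h' hpz hpw)⟩
  -- both prime to `p`: conjugate into one Sylow centre
  obtain ⟨P, hP⟩ := Perm.NilpotentHall.exists_sylow_le (G := G) hpy
  obtain ⟨P', hP'⟩ := Perm.NilpotentHall.exists_sylow_le (G := G) hpz
  obtain ⟨g, hg⟩ := MulAction.exists_smul_eq G P' P
  set z' := g * z * g⁻¹ with hz'def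
  have hz' : orderOf z' = p := by rw [hz'def, orderOf_conj, hz]
  have hPz' : (P : Subgroup G) ≤ cz z' := by
    rw [← hg, Sylow.coe_subgroup_smul]
    rintro _ ⟨c, hc, rfl⟩
    exact mem_cz.2 ((commute_of_cz (hP' hc)).map (MulAut.conj g).toMonoidHom).eq
  have hidx : (cz z').index = (cz z).index := index_cz_conj g z
  have hzP : z' ∈ (P : Subgroup G) := mem_sylow_of_centralizes P (k := 1) (by rw [hz', pow_one]) hPz'
  have hc : Commute y z' := (commute_of_cz (hP hzP)).symm
  have hco' : (cz y).index.Coprime (cz z').index := hidx ▸ hco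
  have hw : orderOf (y * z') = p := by
    refine orderOf_eq_prime ?_ fun h => ?_
    · have e1 : y ^ p = 1 := hy ▸ pow_orderOf_eq_one y
      have e2 : z' ^ p = 1 := hz' ▸ pow_orderOf_eq_one z'
      rw [hc.mul_pow, e1, e2, one_mul]
    · rw [mul_eq_one_iff_eq_inv] at h
      refine index_cz_ne_one hZ hy (Nat.eq_one_of_dvd_coprimes hco' dvd_rfl (dvd_of_eq ?_))
      rw [h, cz_inv]
  refine ⟨y * z', hw ▸ dvd_rfl, two_pprime hZ hy (hidx ▸ hpz) hco', ?_⟩
  rw [← hidx, hc.eq]
  exact two_pprime hZ hz' hpy hco'.symm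

end Cfsg.Agent.Solv.SingularClassGraph
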